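import Groth.Prelude.Def_TorSh
import Groth.Agent.Lib.DefoExt26.LocTriv
import Groth.Agent.Lib.HomSh.Eval
import Groth.Agent.Lib.HomSh.QCoh
import Groth.Agent.Lib.OmegaBC.IdealStalk
import Groth.Agent.Lib.ExcP1.Elim
import Groth.Agent.Lib.FinGen9.Basic
import Groth.Agent.Lib.RegPow10.Main
import Groth.Agent.Lib.QCoh.DevissageRoots
import Groth.Agent.Lib.QCoh.DevissageSummands

/-!
# An isomorphism of stalks of coherent modules extends to a neighbourhood
-/

set_option autoImplicit false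
set_option linter.style.haveILetI false
set_option backward.isDefEq.respectTransparency false
set_option maxHeartbeats 400000

universe u

open CategoryTheory CategoryTheory.Limits AlgebraicGeometry Opposite TopologicalSpace

noncomputable section

namespace GrothLib.NodeSpread11

variable {X : Scheme.{u}} [IsLocallyNoetherian X] {F G : X.Modules}

/-- Two local homomorphisms inverse at a point are inverse nearby. -/
theorem exists_nhd_inverse (hF : Coh.IsCoh F) {U : X.Opens} {x : X} (hx : x ∈ U)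
    (g : Γ(RefHull.homSh F G, U)) (g' : Γ(RefHull.homSh G F, U))
    (h : ∀ v, g'.1 ⟨x, hx⟩ (g.1 ⟨x, hx⟩ v) = v) :
    ∃ (V : X.Opens) (hV : V ≤ U), x ∈ V ∧ ∀ (y : X) (hy : y ∈ V) (v : F.presheaf.stalk y),
      g'.1 ⟨y, hV hy⟩ (g.1 ⟨y, hV hy⟩ v) = v := by
  obtain ⟨W, ι, _, κ, _, m, a, hxW, hgen, -⟩ := HomSh.hasRel_of_isCoh hF x
  let W₀ : X.Opens := W ⊓ U
  choose n hn using fun i => (HomSh.existsUnique_apply
    ((RefHull.homSh F G).presheaf.map (homOfLE (inf_le_right : W₀ ≤ U)).op g)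
    (F.presheaf.map (homOfLE (inf_le_left : W₀ ≤ W)).op (m i))).exists
  choose p hp using fun i => (HomSh.existsUnique_apply
    ((RefHull.homSh G F).presheaf.map (homOfLE (inf_le_right : W₀ ≤ U)).op g') (n i)).exists
  have key : ∀ (i : ι) (y : X) (hy : y ∈ W₀),
      g'.1 ⟨y, hy.2⟩ (g.1 ⟨y, hy.2⟩ (F.presheaf.germ W y hy.1 (m i))) = F.presheaf.germ W₀ y hy (p i) := by
    intro i y hy
    have e1 := hn i y hy
    rw [TopCat.Presheaf.germ_res_apply] at e1
    exact (congrArg (g'.1 ⟨y, hy.2⟩) e1).trans (hp i y hy)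
  obtain ⟨V, hV, hxV, hz⟩ := HomSh.exists_nhd_zero F (W := W₀) ⟨hxW, hx⟩
    (fun i => p i - F.presheaf.map (homOfLE (inf_le_left : W₀ ≤ W)).op (m i)) fun i => by
      rw [map_sub, ← key i x ⟨hxW, hx⟩, h, TopCat.Presheaf.germ_res_apply, sub_self]
  refine ⟨V, hV.trans inf_le_right, hxV, fun y hy v => ?_⟩
  have e : (g'.1 ⟨y, (hV hy).2⟩ ∘ₗ g.1 ⟨y, (hV hy).2⟩) = LinearMap.id := by
    refine LinearMap.ext_on_range (hgen y (hV hy).1) fun i => ?_
    refine (key i y (hV hy)).trans ?_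
    have h0 := congrArg (F.presheaf.germ V y hy) (hz i)
    rw [map_zero, TopCat.Presheaf.germ_res_apply, map_sub, TopCat.Presheaf.germ_res_apply, sub_eq_zero] at h0
    exact h0
  exact LinearMap.congr_fun e v

/-- An isomorphism of stalks of coherent modules extends to a neighbourhood. -/
theorem exists_nhd_iso_of_stalk (hF : Coh.IsCoh F) (hG : Coh.IsCoh G) (x : X)
    (θ : F.presheaf.stalk x ≃ₗ[X.presheaf.stalk x] G.presheaf.stalk x) :
    ∃ V : X.Opens, x ∈ V ∧ ∀ U : X.Opens, U ≤ V → Nonempty (F.restrict U.ι ≅ G.restrict U.ι) := by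
  obtain ⟨a, ha⟩ := ((HomSh.hasRel_of_isCoh hF).evalStalk_bijective G x).2 θ.toLinearMap
  obtain ⟨a', ha'⟩ := ((HomSh.hasRel_of_isCoh hG).evalStalk_bijective F x).2 θ.symm.toLinearMap
  obtain ⟨U₁, hx₁, g₁, rfl⟩ := TopCat.Presheaf.exists_germ_eq (RefHull.homSh F G).presheaf a
  obtain ⟨U₂, hx₂, g₂, rfl⟩ := TopCat.Presheaf.exists_germ_eq (RefHull.homSh G F).presheaf a'
  rw [RefHull.evalStalk_germ] at ha ha'
  let g := (RefHull.homSh F G).presheaf.map (homOfLE (inf_le_left : U₁ ⊓ U₂ ≤ U₁)).op g₁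
  let g' := (RefHull.homSh G F).presheaf.map (homOfLE (inf_le_right : U₁ ⊓ U₂ ≤ U₂)).op g₂
  have hgx : g.1 ⟨x, hx₁, hx₂⟩ = θ.toLinearMap := ha
  have hgx' : g'.1 ⟨x, hx₁, hx₂⟩ = θ.symm.toLinearMap := ha'
  obtain ⟨V₁, hV₁, hxV₁, h₁⟩ := exists_nhd_inverse (U := U₁ ⊓ U₂) hF ⟨hx₁, hx₂⟩ g g' fun v => by
    rw [hgx, hgx']; exact θ.symm_apply_apply v
  obtain ⟨V₂, hV₂, hxV₂, h₂⟩ := exists_nhd_inverse (U := U₁ ⊓ U₂) hG ⟨hx₁, hx₂⟩ g' g fun v => by
    rw [hgx, hgx']; exact θ.apply_symm_apply v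
  refine ⟨V₁ ⊓ V₂, ⟨hxV₁, hxV₂⟩, fun U hU => ?_⟩
  have hle : U ≤ U₁ ⊓ U₂ := hU.trans (inf_le_left.trans hV₁)
  obtain ⟨φ, hφ⟩ := DefoExt26.exists_restrict_hom ((RefHull.homSh F G).presheaf.map (homOfLE hle).op g)
  obtain ⟨ψ, hψ⟩ := DefoExt26.exists_restrict_hom ((RefHull.homSh G F).presheaf.map (homOfLE hle).op g')
  refine ⟨⟨φ, ψ, ?_, ?_⟩⟩
  · refine Scheme.Modules.hom_ext _ _ fun W => ?_
    ext m
    refine HomColim20.section_ext_germ F fun y hy => ?_
    refine (hψ W (φ.app W m) y hy).trans ?_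
    refine (congrArg (g'.1 ⟨y, hle (U.ι_image_le W hy)⟩) (hφ W m y hy)).trans ?_
    exact h₁ y (hU (U.ι_image_le W hy)).1 _
  · refine Scheme.Modules.hom_ext _ _ fun W => ?_
    ext m
    refine HomColim20.section_ext_germ G fun y hy => ?_
    refine (hφ W (ψ.app W m) y hy).trans ?_
    refine (congrArg (g.1 ⟨y, hle (U.ι_image_le W hy)⟩) (hψ W m y hy)).trans ?_
    exact h₂ y (hU (U.ι_image_le W hy)).2 _

/-- The stalk of a binary coproduct. -/
theorem stalk_coprod (A B : X.Modules) (x : X) :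
    Nonempty ((A ⨿ B).presheaf.stalk x ≃ₗ[X.presheaf.stalk x] (A.presheaf.stalk x × B.presheaf.stalk x)) :=
  haveI : PreservesBinaryBiproducts (OX.stalk x) := preservesBinaryBiproducts_of_preservesBinaryCoproducts _
  ⟨((OX.stalk x).mapIso (biprod.isoCoprod A B).symm ≪≫
    (OX.stalk x).mapBiprod A B ≪≫
    ModuleCat.biprodIsoProd ((OX.stalk x).obj A) ((OX.stalk x).obj B)).toLinearEquiv⟩

omit [IsLocallyNoetherian X] in
/-- The stalk at a closed point of its ideal module is the maximal ideal. -/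
theorem stalk_idealMod_point {x : X} (hx : IsClosed ({x} : Set X)) :
    Nonempty ((ClSub.idealMod (Scheme.IdealSheafData.vanishingIdeal (⟨{x}, hx⟩ : Closeds X))).presheaf.stalk x ≃ₗ[X.presheaf.stalk x]
      IsLocalRing.maximalIdeal (X.presheaf.stalk x)) := by
  obtain ⟨_, ⟨U, hU, rfl⟩, hxU, -⟩ :=
    X.isBasis_affineOpens.exists_subset_of_mem_open (Set.mem_univ x) isOpen_univ
  refine ⟨(LinearEquiv.ofInjective _ (OmegaBC.sval_injective _ x)).trans (LinearEquiv.ofEq _ _ ?_)⟩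
  rw [OmegaBC.range_sval _ x ⟨U, hU⟩ hxU, (ExcP1.vanishingIdeal_point_ideal hx ⟨U, hU⟩ hxU).1]
  letI : Algebra Γ(X, U) (X.presheaf.stalk x) := X.presheaf.algebra_section_stalk (⟨x, hxU⟩ : U)
  haveI : IsLocalization.AtPrime (X.presheaf.stalk x) (hU.primeIdealOf ⟨x, hxU⟩).asIdeal :=
    hU.isLocalization_stalk ⟨x, hxU⟩
  exact IsLocalization.AtPrime.map_eq_maximalIdeal _ (X.presheaf.stalk x)

/-- A coherent module with the stalk of a node model is that model nearby. -/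
theorem exists_nhd_iso_model (hF : Coh.IsCoh F) {x : X} (hx : IsClosed ({x} : Set X)) (a b : ℕ)
    (θ : F.presheaf.stalk x ≃ₗ[X.presheaf.stalk x]
      ((Fin a → IsLocalRing.maximalIdeal (X.presheaf.stalk x)) × (Fin b → X.presheaf.stalk x))) :
    ∃ V : X.Opens, x ∈ V ∧ ∀ U : X.Opens, U ≤ V →
      Nonempty (F.restrict U.ι ≅
        (∐ fun _ : Fin a =>
            (ClSub.idealMod (Scheme.IdealSheafData.vanishingIdeal (⟨{x}, hx⟩ : Closeds X))).restrict U.ι) ⨿
          (∐ fun _ : Fin b => Coh.structureModule (↑U : Scheme.{u}))) := by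
  let I := ClSub.idealMod (Scheme.IdealSheafData.vanishingIdeal (⟨{x}, hx⟩ : Closeds X))
  let O := Coh.structureModule X
  let A := ∐ fun _ : Fin a => I
  let B := ∐ fun _ : Fin b => O
  haveI : HasFiniteBiproducts X.Modules := Abelian.hasFiniteBiproducts
  have hA : Coh.IsCoh A := QCoh.isCoh_of_iso (biproduct.isoCoproduct _) (QCoh.isCoh_biproduct_fin _ fun _ => RegPow.isCoh_idealMod _)
  have hB : Coh.IsCoh B := QCoh.isCoh_of_iso (biproduct.isoCoproduct _) (QCoh.isCoh_biproduct_fin _ fun _ => HomSh.isCoh_structureModule X)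
  have hG : Coh.IsCoh (A ⨿ B) := QCoh.isCoh_of_iso (biprod.isoCoprod A B) (QCoh.isCoh_biprod' hA hB)
  obtain ⟨e₁⟩ := stalk_coprod A B x
  obtain ⟨e₂⟩ := FinGen9.stalk_sigma I x a
  obtain ⟨e₃⟩ := FinGen9.stalk_sigma O x b
  obtain ⟨e₄⟩ := stalk_idealMod_point hx
  let eG : (A ⨿ B).presheaf.stalk x ≃ₗ[X.presheaf.stalk x]
      ((Fin a → IsLocalRing.maximalIdeal (X.presheaf.stalk x)) × (Fin b → X.presheaf.stalk x)) :=
    e₁.trans ((e₂.trans (LinearEquiv.piCongrRight fun _ => e₄)).prodCongr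
      (e₃.trans (LinearEquiv.piCongrRight fun _ => (OmegaBC.ouni x).symm)))
  obtain ⟨V, hxV, hV⟩ := exists_nhd_iso_of_stalk hF hG x (θ.trans eG.symm)
  refine ⟨V, hxV, fun U hU => ?_⟩
  obtain ⟨e⟩ := hV U hU
  let R := Scheme.Modules.restrictFunctor U.ι
  haveI := (Scheme.Modules.restrictAdjunction U.ι).leftAdjoint_preservesColimits
  exact ⟨e ≪≫ (PreservesColimitPair.iso R A B).symm ≪≫
    coprod.mapIso (PreservesCoproduct.iso R fun _ : Fin a => I)
      (PreservesCoproduct.iso R (fun _ : Fin b => O) ≪≫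
        Sigma.mapIso fun _ => Scheme.Modules.restrictUnitIso U.ι)⟩

end GrothLib.NodeSpread11
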