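import Groth.Prelude.Def_CurvBase
import Groth.Agent.Lib.Ratliff.Completion
import Groth.Agent.Lib.AdicExtra.Completion
import Groth.Agent.Lib.CMFree.Regular
import Groth.Agent.Lib.GrpSchField.SmoothRegular
import Groth.Agent.Lib.NodeEt.FieldExtBC
import Groth.Agent.Lib.SepPts.SmoothDense
import Groth.Agent.Lib.Euler.GenericCompare

/-!
# A node has a neighbourhood without other nodes
-/

set_option autoImplicit false
set_option linter.style.haveILetI false
set_option backward.isDefEq.respectTransparency false

universe u

open CategoryTheory CategoryTheory.Limits AlgebraicGeometry TopologicalSpace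

noncomputable section

namespace GrothLib.NodeSpread11

variable (k : Type u) [Field k] [IsAlgClosed k] {X : Scheme.{u}} [X.Over (Spec (CommRingCat.of k))]

/-- The two axes equation has no domain quotient. -/
theorem not_isDomain_quot (K : Type u) [Field K] :
    ¬ IsDomain (MvPowerSeries (Fin 2) K ⧸ Ideal.span {(MvPowerSeries.X 0 * MvPowerSeries.X 1 : MvPowerSeries (Fin 2) K)}) := by
  intro hd
  let q := Ideal.Quotient.mk (Ideal.span {(MvPowerSeries.X 0 * MvPowerSeries.X 1 : MvPowerSeries (Fin 2) K)})
  have h0 : q (MvPowerSeries.X 0) * q (MvPowerSeries.X 1) = 0 := by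
    rw [← map_mul, Ideal.Quotient.eq_zero_iff_mem]
    exact Ideal.mem_span_singleton_self _
  have hne : ∀ i : Fin 2, q (MvPowerSeries.X i) ≠ 0 := fun i hi => by
    obtain ⟨c, hc⟩ := Ideal.mem_span_singleton'.1 (Ideal.Quotient.eq_zero_iff_mem.1 hi)
    have h1 := congrArg (MvPowerSeries.coeff (Finsupp.single i 1)) hc
    rw [MvPowerSeries.coeff_index_single_self_X, MvPowerSeries.X, MvPowerSeries.X,
      MvPowerSeries.monomial_mul_monomial, MvPowerSeries.coeff_mul_monomial] at h1
    rw [if_neg] at h1
    · exact zero_ne_one h1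
    · intro hle
      have a := hle 0
      have b := hle 1
      fin_cases i <;> simp at a b
  exact (mul_eq_zero.1 h0).elim (hne 0) (hne 1)

variable [LocallyOfFiniteType (X ↘ Spec (CommRingCat.of k))]

include k in
/-- A node is not a regular point. -/
theorem not_isRegularLocalRing_of_isNode {x : X} (h : Curv2.IsNode k X x) :
    ¬ IsRegularLocalRing (X.presheaf.stalk x) := by
  intro hreg
  obtain ⟨hx, xb, rfl, e, -⟩ := h
  let K := AlgebraicClosure k
  haveI : IsIso (CommRingCat.ofHom (algebraMap k K)) :=
    (ConcreteCategory.isIso_iff_bijective _).2 IsAlgClosed.algebraMap_bijective_of_isIntegral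
  haveI : IsIso (Curv2.bcFst k X K) := inferInstance
  haveI : IsLocallyNoetherian X := LocallyOfFiniteType.isLocallyNoetherian (X ↘ (Spec (CommRingCat.of k)))
  let ε := (asIso ((Curv2.bcFst k X K).stalkMap xb)).commRingCatIsoToRingEquiv
  haveI := hreg
  haveI : IsRegularLocalRing ((Curv2.bc k X K).presheaf.stalk xb) := IsRegularLocalRing.of_ringEquiv ε
  haveI : IsRegularLocalRing (AdicCompletion (IsLocalRing.maximalIdeal ((Curv2.bc k X K).presheaf.stalk xb))
      ((Curv2.bc k X K).presheaf.stalk xb)) := GrothLib.AdicExtra.isRegularLocalRing_adicCompletion_iff.1 inferInstance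
  haveI := CMFree.isDomain_of_isRegularLocalRing (AdicCompletion (IsLocalRing.maximalIdeal ((Curv2.bc k X K).presheaf.stalk xb))
    ((Curv2.bc k X K).presheaf.stalk xb))
  exact not_isDomain_quot (AlgebraicClosure k) e.symm.toMulEquiv.isDomain

variable [IsProper (X ↘ Spec (CommRingCat.of k))]

/-- The nodes of a nodal curve form a finite set. -/
theorem finite_setOf_isNode (hd : topologicalKrullDim X ≤ 1) (h : Curv2.AtWorstNodal k X) :
    {x : X | Curv2.IsNode k X x}.Finite := by
  let p := X ↘ Spec (CommRingCat.of k)
  haveI := Euler.isNoetherian_of_proper (X := X) k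
  haveI : GeometricallyReduced p := NodeEt.geometricallyReduced_of_atWorstNodal p h
  let W := p.smoothLocus
  have hW : genericPoints (X : Type u) ⊆ W := fun η hη => by
    refine SepPts.mem_smoothLocus_of_maximal p fun w hw => ?_
    have h1 : closure ({η} : Set X) ⊆ closure {w} := closure_minimal (Set.singleton_subset_iff.mpr hw.mem_closure) isClosed_closure
    have h2 := hη.2 isIrreducible_singleton.closure h1
    exact ((specializes_iff_mem_closure.2 (h2 (subset_closure rfl))).antisymm hw).eq.symm
  refine (Euler.finite_closed_of_disjoint k hd hW).1.subset fun x hx hxW => ?_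
  have hsm : Smooth (W.ι ≫ p) := by
    rw [← Scheme.Hom.smoothLocus_eq_top_iff, ← Scheme.Hom.preimage_smoothLocus_eq]
    exact Opens.ext (Set.eq_univ_of_forall fun y => y.2)
  refine not_isRegularLocalRing_of_isNode k hx ?_
  haveI := hsm
  have hcl : IsClosed ({(⟨x, hxW⟩ : W)} : Set W) := by
    rw [show ({(⟨x, hxW⟩ : W)} : Set W) = Subtype.val ⁻¹' {x} from by
      ext y; simp only [Set.mem_singleton_iff, Set.mem_preimage]; exact Subtype.ext_iff]
    exact hx.1.preimage continuous_subtype_val
  haveI := GrothLib.GrpSchField.isRegularLocalRing_stalk_of_smooth (W.ι ≫ p) hcl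
  exact IsRegularLocalRing.of_ringEquiv (W.stalkIso ⟨x, hxW⟩).commRingCatIsoToRingEquiv

end GrothLib.NodeSpread11
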